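import Groth.Agent.Lib.CI2.GoodFact
import Groth.Agent.Lib.CplLocH7.Basic
import Groth.Agent.Lib.Compl.Complete
import Groth.Agent.Lib.FormalH7.CplRing
import Groth.Agent.Lib.RegLoc.Basic
import Mathlib.RingTheory.AdicCompletion.LocalRing

/-! # Flat complete algebras with a prescribed regular closed fibre (gonflement) -/

set_option autoImplicit false
set_option linter.style.haveILetI false
universe u

namespace Groth.Agent.CohenAlg3

open IsLocalRing MvPowerSeries H2Alg

theorem isAdicComplete_quotient {R : Type u} [CommRing R] [IsLocalRing R] [IsNoetherianRing R]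
    [IsAdicComplete (maximalIdeal R) R] (J : Ideal R) [IsLocalRing (R ⧸ J)] :
    IsAdicComplete (maximalIdeal (R ⧸ J)) (R ⧸ J) := by
  rw [← map_maximalIdeal_of_surjective (algebraMap R (R ⧸ J)) Ideal.Quotient.mk_surjective]
  exact (IsAdicComplete.map_algebraMap_iff _ _).2 (Compl.isAdicComplete_of_finite _ _)

theorem injective_of_surjective_regular {R S : Type u} [CommRing R] [IsRegularLocalRing R] [CommRing S]
    [Nontrivial S] (f : R →+* S) (hf : Function.Surjective f) (h : ringKrullDim R ≤ ringKrullDim S) :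
    Function.Injective f := by
  haveI := RegLoc.isDomain R
  refine (injective_iff_map_eq_zero f).2 fun x hx => by_contra fun h0 => ?_
  have h1 := ringKrullDim_quotient_succ_le_of_nonZeroDivisor (mem_nonZeroDivisors_of_ne_zero h0)
  have h2 : ringKrullDim S ≤ ringKrullDim (R ⧸ Ideal.span {x}) :=
    ringKrullDim_le_of_surjective (Ideal.Quotient.lift _ f fun a ha => by
      obtain ⟨c, rfl⟩ := Ideal.mem_span_singleton'.1 ha
      rw [map_mul, hx, mul_zero]) fun s => by
      obtain ⟨r, rfl⟩ := hf s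
      exact ⟨Ideal.Quotient.mk _ r, rfl⟩
  have h3 := (add_le_add (h.trans h2) le_rfl).trans h1
  rw [← IsRegularLocalRing.spanFinrank_maximalIdeal (R := R), ← Nat.cast_one, ← Nat.cast_add] at h3
  have h4 : (maximalIdeal R).spanFinrank + 1 ≤ (maximalIdeal R).spanFinrank := by exact_mod_cast h3
  omega

theorem exists_fin_gens {R : Type u} [CommRing R] [IsLocalRing R] [IsNoetherianRing R] :
    ∃ b : Fin (maximalIdeal R).spanFinrank → R, Ideal.span (Set.range b) = maximalIdeal R := by
  obtain ⟨s, hs, hsp⟩ := Submodule.FG.exists_span_set_encard_eq_spanFinrank (IsNoetherian.noetherian (maximalIdeal R))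
  have hfin : s.Finite := Set.finite_of_encard_eq_coe hs
  haveI := hfin.fintype
  have hcard : Fintype.card s = (maximalIdeal R).spanFinrank := by
    rw [← Nat.card_eq_fintype_card, Nat.card_coe_set_eq, Set.ncard, hs]
    rfl
  refine ⟨fun i => ((Fintype.equivFinOfCardEq hcard).symm i : R), Eq.trans ?_ hsp⟩
  rw [show (fun i => ((Fintype.equivFinOfCardEq hcard).symm i : R)) =
    Subtype.val ∘ (Fintype.equivFinOfCardEq hcard).symm from rfl, Set.range_comp,
    Equiv.range_eq_univ, Set.image_univ, Subtype.range_coe]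

/-- Over a complete ring, every regular complete algebra of the residue field is the closed fibre
of a flat complete algebra. -/
theorem exists_lift_of_isAdicComplete (A B₀ : Type u) [CommRing A] [IsLocalRing A] [IsNoetherianRing A]
    [IsAdicComplete (maximalIdeal A) A] [CommRing B₀] [IsRegularLocalRing B₀]
    [IsAdicComplete (maximalIdeal B₀) B₀] (φ : A →+* B₀) (hkill : ∀ a ∈ maximalIdeal A, φ a = 0) :
    ∃ (B : Type u) (_ : CommRing B) (_ : IsLocalRing B) (_ : IsNoetherianRing B) (ι : A →+* B) (π : B →+* B₀),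
      IsAdicComplete (maximalIdeal B) B ∧ IsLocalHom ι ∧ ι.Flat ∧ Function.Surjective π ∧
        RingHom.ker π = (maximalIdeal A).map ι ∧ π.comp ι = φ := by
  haveI : IsLocalHom φ := ⟨fun a ha => by
    by_contra h
    rw [hkill a h] at ha
    exact not_isUnit_zero ha⟩
  obtain ⟨Λ, iΛ, iΛl, f, -, hΛ, hf, hfs⟩ := CI2.exists_cohen_coeff A
  obtain ⟨Λ', iΛ', iΛl', f', -, hΛ', hf', hfs'⟩ := CI2.exists_cohen_coeff B₀
  obtain ⟨qs, hqs, hregΛ, hdimΛ, hq⟩ := CI2.exists_nat_gens hΛ
  obtain ⟨qs', hqs', hregΛ', hdimΛ', hq'⟩ := CI2.exists_nat_gens hΛ'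
  haveI := hf
  haveI := hf'
  obtain rfl : qs = qs' := CI2.nat_gens_eq (φ.comp f) f' hq hq' hqs hqs'
  haveI := Cohen.isAdicComplete_cohen hΛ'
  haveI := hregΛ
  haveI := hregΛ'
  obtain ⟨n, z, hz⟩ := Submodule.fg_iff_exists_fin_generating_family.mp (IsNoetherian.noetherian (maximalIdeal A))
  obtain ⟨m, hm, b, hb⟩ : ∃ m, m = (maximalIdeal B₀).spanFinrank ∧
      ∃ b : Fin m → B₀, Ideal.span (Set.range b) = maximalIdeal B₀ := ⟨_, rfl, exists_fin_gens⟩
  have hzm : ∀ i, z i ∈ maximalIdeal A := fun i => hz ▸ Submodule.subset_span ⟨i, rfl⟩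
  have hbm : ∀ i, b i ∈ maximalIdeal B₀ := fun i => hb ▸ Ideal.subset_span ⟨i, rfl⟩
  letI : Algebra Λ A := f.toAlgebra
  letI : Algebra Λ' B₀ := f'.toAlgebra
  let w : Fin (n + m) → B₀ := Fin.append (fun _ => 0) b
  have hw : ∀ i, w i ∈ maximalIdeal B₀ := fun i => by
    refine Fin.addCases (fun i => ?_) (fun i => ?_) i
    · simp [w]
    · simpa [w] using hbm i
  obtain ⟨ψA, hψA⟩ := PSHom.exists_algHom (A := Λ) (maximalIdeal A) z hzm
  obtain ⟨ψB, hψB⟩ := PSHom.exists_algHom (A := Λ') (maximalIdeal B₀) w hw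
  have hsA : Function.Surjective ψA := by
    refine PSHom.surjective ψA (maximalIdeal A) ?_ fun t => ?_
    · rw [PSHom.V, Ideal.map_span, ← Set.range_comp, show (ψA ∘ fun i => X i) = z from funext hψA]
      exact hz
    · obtain ⟨lam, hlam⟩ := hfs (residue A t)
      refine ⟨lam, ?_⟩
      rw [← residue_eq_zero_iff, map_sub, sub_eq_zero]
      exact hlam.symm
  have hsB : Function.Surjective ψB := by
    refine PSHom.surjective ψB (maximalIdeal B₀) ?_ fun t => ?_
    · rw [PSHom.V, Ideal.map_span, ← Set.range_comp, show (ψB ∘ fun i => X i) = w from funext hψB]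
      refine le_antisymm (Ideal.span_le.mpr (by rintro _ ⟨i, rfl⟩; exact hw i)) ?_
      rw [← hb]
      exact Submodule.span_mono (by rintro _ ⟨i, rfl⟩; exact ⟨Fin.natAdd n i, Fin.append_right _ _ i⟩)
    · obtain ⟨lam, hlam⟩ := hfs' (residue B₀ t)
      refine ⟨lam, ?_⟩
      rw [← residue_eq_zero_iff, map_sub, sub_eq_zero]
      exact hlam.symm
  haveI : IsAdicComplete (maximalIdeal (MvPowerSeries (Fin (n + m)) Λ')) (MvPowerSeries (Fin (n + m)) Λ') :=
    ArtFunLib.isAdicComplete_mvPowerSeries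
  haveI : IsRegularLocalRing (MvPowerSeries (Fin (n + m)) Λ') := Cohen.isRegularLocalRing_mvPowerSeries Λ' _
  haveI : IsRegularLocalRing (MvPowerSeries (Fin n) Λ) := Cohen.isRegularLocalRing_mvPowerSeries Λ _
  let σ : MvPowerSeries (Fin (n + m)) Λ' →+* B₀ := ψB.toRingHom
  have hσ : Function.Surjective σ := hsB
  let eB := RingHom.quotientKerEquivOfSurjective (f := σ) hσ
  let u : Λ →+* MvPowerSeries (Fin (n + m)) Λ' ⧸ RingHom.ker σ := eB.symm.toRingHom.comp (φ.comp f)
  haveI : IsLocalHom u := ⟨fun x hx => by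
    have h : IsUnit (eB (u x)) := hx.map eB
    rw [show eB (u x) = φ (f x) from eB.apply_symm_apply _] at h
    exact (isUnit_map_iff f x).1 ((isUnit_map_iff φ _).1 h)⟩
  obtain ⟨v, hv, hvu⟩ := Cohen.exists_lift_quotient hΛ (RingHom.ker σ) (RingHom.ker_ne_top σ) u
  haveI := hv
  have hσv : ∀ lam, σ (v lam) = φ (f lam) := fun lam => by
    have h := congrArg eB (RingHom.congr_fun hvu lam)
    exact h.trans (eB.apply_symm_apply _)
  letI : Algebra Λ (MvPowerSeries (Fin (n + m)) Λ') := v.toAlgebra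
  have hX : ∀ i, (X i : MvPowerSeries (Fin (n + m)) Λ') ∈ maximalIdeal (MvPowerSeries (Fin (n + m)) Λ') := fun i =>
    (Cohen.maximalIdeal_mvPowerSeries Λ' (n + m)).ge (Submodule.mem_sup_right (PSHom.X_mem i))
  obtain ⟨τ, hτ⟩ := PSHom.exists_algHom (A := Λ) (maximalIdeal (MvPowerSeries (Fin (n + m)) Λ'))
    (fun i : Fin n => X (Fin.castAdd m i)) (fun i => hX _)
  letI : Algebra Λ B₀ := (φ.comp f).toAlgebra
  let φ₁ : MvPowerSeries (Fin n) Λ →ₐ[Λ] B₀ :=
    { toRingHom := σ.comp τ.toRingHom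
      commutes' := fun lam => (congrArg σ (τ.commutes lam)).trans (hσv lam) }
  let φ₂ : MvPowerSeries (Fin n) Λ →ₐ[Λ] B₀ :=
    { toRingHom := φ.comp ψA.toRingHom
      commutes' := fun lam => congrArg φ (ψA.commutes lam) }
  have hcast : ∀ i : Fin n, σ (X (Fin.castAdd m i)) = φ (z i) := fun i =>
    ((hψB _).trans (Fin.append_left _ _ i)).trans (hkill _ (hzm i)).symm
  have hφ : φ₁ = φ₂ := PSHom.algHom_ext (maximalIdeal B₀)
    (fun i => show σ (τ (X i)) ∈ _ by rw [hτ, hcast]; exact map_nonunit φ _ (hzm i))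
    (fun i => show σ (τ (X i)) = φ (ψA (X i)) by rw [hτ, hcast, hψA])
  have hcomp : ∀ p, σ (τ p) = φ (ψA p) := fun p => AlgHom.congr_fun hφ p
  letI : Algebra (MvPowerSeries (Fin n) Λ) (MvPowerSeries (Fin (n + m)) Λ') := τ.toRingHom.toAlgebra
  haveI : IsLocalHom (algebraMap (MvPowerSeries (Fin n) Λ) (MvPowerSeries (Fin (n + m)) Λ')) := ⟨fun p hp => by
    have h : IsUnit (φ (ψA p)) := hcomp p ▸ hp.map σ
    haveI := IsLocalHom.of_surjective ψA.toRingHom hsA
    exact (isUnit_map_iff ψA.toRingHom p).1 ((isUnit_map_iff φ _).1 h)⟩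
  -- the regular sequence
  let rs : List (MvPowerSeries (Fin n) Λ) :=
    qs.map (fun q : ℕ => (q : MvPowerSeries (Fin n) Λ)) ++ List.ofFn (fun i : Fin n => X i)
  have hrs : Ideal.ofList rs = maximalIdeal (MvPowerSeries (Fin n) Λ) := by
    rw [Ideal.ofList_append, Cohen.maximalIdeal_mvPowerSeries, hqs, Ideal.map_ofList, List.map_map]
    congr 1
    exact congrArg Ideal.span (Set.ext fun a => by simp [List.mem_ofFn])
  set I := Ideal.ofList (rs.map (algebraMap (MvPowerSeries (Fin n) Λ) (MvPowerSeries (Fin (n + m)) Λ'))) with hI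
  have hImap : I = (maximalIdeal (MvPowerSeries (Fin n) Λ)).map τ.toRingHom := by
    rw [hI, ← Ideal.map_ofList, hrs]
    rfl
  have hIker : I ≤ RingHom.ker σ := by
    rw [hImap, Ideal.map_le_iff_le_comap]
    intro p hp
    show σ (τ p) = 0
    rw [hcomp]
    haveI := IsLocalHom.of_surjective ψA.toRingHom hsA
    exact hkill _ (map_nonunit ψA.toRingHom p hp)
  haveI : Nontrivial (MvPowerSeries (Fin (n + m)) Λ' ⧸ I) := Ideal.Quotient.nontrivial_iff.2 fun h =>
    RingHom.ker_ne_top σ (top_le_iff.1 (h ▸ hIker))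
  haveI : IsLocalRing (MvPowerSeries (Fin (n + m)) Λ' ⧸ I) :=
    IsLocalRing.of_surjective' _ Ideal.Quotient.mk_surjective
  have hgen : (maximalIdeal (MvPowerSeries (Fin (n + m)) Λ' ⧸ I)).spanFinrank ≤ m := by
    have hspan : maximalIdeal (MvPowerSeries (Fin (n + m)) Λ' ⧸ I) =
        Ideal.span (Set.range fun j : Fin m => Ideal.Quotient.mk I (X (Fin.natAdd n j))) := by
      refine le_antisymm ?_ (Ideal.span_le.2 ?_)
      · rw [← map_maximalIdeal_of_surjective (Ideal.Quotient.mk I) Ideal.Quotient.mk_surjective,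
          Cohen.maximalIdeal_mvPowerSeries, Ideal.map_sup, sup_le_iff]
        constructor
        · rw [hqs', Ideal.map_ofList, Ideal.map_ofList, List.map_map, List.map_map, Ideal.ofList, Ideal.span_le]
          intro x hx
          obtain ⟨q, hq, rfl⟩ := List.mem_map.1 hx
          simp only [Function.comp_apply, SetLike.mem_coe]
          rw [Ideal.Quotient.eq_zero_iff_mem.2 (?_ : C ((q : ℕ) : Λ') ∈ I)]
          · exact zero_mem _
          rw [map_natCast, ← map_natCast (algebraMap (MvPowerSeries (Fin n) Λ) (MvPowerSeries (Fin (n + m)) Λ'))]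
          exact Ideal.subset_span (List.mem_map_of_mem (List.mem_append_left _ (List.mem_map_of_mem hq)))
        · rw [PSHom.V, Ideal.map_span, Ideal.span_le]
          rintro _ ⟨_, ⟨i, rfl⟩, rfl⟩
          refine Fin.addCases (fun i => ?_) (fun j => ?_) i
          · rw [SetLike.mem_coe, Ideal.Quotient.eq_zero_iff_mem.2 (?_ : (X (Fin.castAdd m i) : MvPowerSeries (Fin (n + m)) Λ') ∈ I)]
            · exact zero_mem _
            rw [← hτ i]
            exact Ideal.subset_span (List.mem_map_of_mem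
              (List.mem_append_right _ ((List.mem_ofFn' _ _).2 ⟨i, rfl⟩)))
          · exact Ideal.subset_span ⟨j, rfl⟩
      · rintro _ ⟨j, rfl⟩
        haveI := IsLocalHom.of_surjective (Ideal.Quotient.mk I) Ideal.Quotient.mk_surjective
        exact map_nonunit (Ideal.Quotient.mk I) _ (hX _)
    rw [hspan, Ideal.span]
    refine (Submodule.spanFinrank_span_le_ncard_of_finite (Set.finite_range _)).trans ?_
    rw [← Set.image_univ]
    exact (Set.ncard_image_le Set.finite_univ).trans (by simp)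
  have hdim : ((rs.length + m : ℕ) : WithBot ℕ∞) ≤ ringKrullDim (MvPowerSeries (Fin (n + m)) Λ') := by
    refine le_trans (le_of_eq ?_) (Cohen.add_le_ringKrullDim Λ' (n + m))
    rw [hdimΛ']
    simp [rs]
    ring
  obtain ⟨hflat, hreg⟩ := CI2.flat_of_rsop rs hrs m hgen hdim
  -- the fibre
  haveI : IsRegularLocalRing (MvPowerSeries (Fin (n + m)) Λ' ⧸ I) := by
    rw [hImap]; exact hreg
  have hker : RingHom.ker σ = I := by
    refine le_antisymm (fun x hx => ?_) hIker
    have hinj := injective_of_surjective_regular (Ideal.Quotient.lift I σ fun a ha => hIker ha)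
      (fun t => by obtain ⟨a, rfl⟩ := hσ t; exact ⟨Ideal.Quotient.mk I a, rfl⟩)
      ((ringKrullDim_le_spanFinrank_maximalIdeal _).trans
        (le_trans (by exact_mod_cast hgen.trans hm.le) (IsRegularLocalRing.spanFinrank_maximalIdeal (R := B₀)).le))
    exact Ideal.Quotient.eq_zero_iff_mem.1 (hinj (((Ideal.Quotient.lift_mk I σ _).trans hx).trans (map_zero _).symm))
  -- the algebra
  let K := RingHom.ker ψA.toRingHom
  let L := K.map τ.toRingHom
  have hL : L ≤ RingHom.ker σ := Ideal.map_le_iff_le_comap.2 fun p hp => by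
    show σ (τ p) = 0
    rw [hcomp, show ψA p = 0 from hp, map_zero]
  haveI : Nontrivial (MvPowerSeries (Fin (n + m)) Λ' ⧸ L) := Ideal.Quotient.nontrivial_iff.2 fun h =>
    RingHom.ker_ne_top σ (top_le_iff.1 (h ▸ hL))
  haveI : IsLocalRing (MvPowerSeries (Fin (n + m)) Λ' ⧸ L) :=
    IsLocalRing.of_surjective' _ Ideal.Quotient.mk_surjective
  let eA : (MvPowerSeries (Fin n) Λ ⧸ K) ≃+* A := RingHom.quotientKerEquivOfSurjective (f := ψA.toRingHom) hsA
  let j : (MvPowerSeries (Fin n) Λ ⧸ K) →+* MvPowerSeries (Fin (n + m)) Λ' ⧸ L :=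
    Ideal.quotientMap L τ.toRingHom Ideal.le_comap_map
  let ι : A →+* MvPowerSeries (Fin (n + m)) Λ' ⧸ L := j.comp eA.symm.toRingHom
  have hι : ∀ p, ι (ψA p) = Ideal.Quotient.mk L (τ p) := fun p => by
    show j (eA.symm (eA (Ideal.Quotient.mk K p))) = _
    rw [eA.symm_apply_apply]
    rfl
  let π : (MvPowerSeries (Fin (n + m)) Λ' ⧸ L) →+* B₀ := Ideal.Quotient.lift L σ fun a ha => hL ha
  have hπι : π.comp ι = φ := RingHom.ext fun a => by
    obtain ⟨p, rfl⟩ := hsA a
    rw [RingHom.comp_apply, hι]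
    exact hcomp p
  refine ⟨_, inferInstance, inferInstance, inferInstance, ι, π, isAdicComplete_quotient L, ⟨fun a ha => ?_⟩, ?_,
    Ideal.Quotient.lift_surjective_of_surjective _ _ hσ, ?_, hπι⟩
  · have h : IsUnit (π (ι a)) := ha.map π
    rw [← RingHom.comp_apply, hπι] at h
    exact (isUnit_map_iff φ a).1 h
  · exact RingHom.Flat.comp (RingHom.Flat.of_bijective eA.symm.bijective)
      (FormalH7.flat_quotientMap K (RingHom.flat_algebraMap_iff.2 hflat))
  · rw [← map_maximalIdeal_of_surjective ψA.toRingHom hsA, Ideal.map_map,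
      show ι.comp ψA.toRingHom = (Ideal.Quotient.mk L).comp τ.toRingHom from RingHom.ext hι, ← Ideal.map_map,
      ← hImap, Ideal.ker_quotient_lift, hker]

end Groth.Agent.CohenAlg3
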