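import Groth.Agent.Lib.CohenAlg3.Lift
import Groth.Agent.Lib.AdicSmooth3.Lift
import Groth.Agent.Lib.FSFlat3.Forward
import Groth.Agent.Lib.HBDef3.Basic
import Groth.Agent.S4537
import Groth.Agent.S9316

/-! # Flat complete lifts of formally smooth algebras over quotients -/

set_option autoImplicit false
set_option linter.style.haveILetI false
set_option backward.isDefEq.respectTransparency false
universe u

namespace Groth.Agent.CohenAlg3

open IsLocalRing TensorProduct

theorem ker_includeRight {A B : Type u} [CommRing A] [CommRing B] [Algebra A B] (J : Ideal A) :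
    RingHom.ker (Algebra.TensorProduct.includeRight : B →ₐ[A] (A ⧸ J) ⊗[A] B).toRingHom =
      J.map (algebraMap A B) := by
  ext x
  show (1 : A ⧸ J) ⊗ₜ[A] x = 0 ↔ _
  rw [FlatH4.one_tmul_eq_zero_iff, Ideal.smul_top_eq_map, Submodule.restrictScalars_mem]

theorem includeRight_surjective {A B k : Type u} [CommRing A] [CommRing B] [Algebra A B] [CommRing k] [Algebra A k]
    (hk : Function.Surjective (algebraMap A k)) :
    Function.Surjective (Algebra.TensorProduct.includeRight : B →ₐ[A] k ⊗[A] B) := by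
  intro z
  induction z with
  | zero => exact ⟨0, map_zero _⟩
  | add a b ha hb => obtain ⟨x, rfl⟩ := ha; obtain ⟨y, rfl⟩ := hb; exact ⟨x + y, map_add _ _ _⟩
  | tmul c b =>
    obtain ⟨a, rfl⟩ := hk c
    exact ⟨a • b, by rw [Algebra.TensorProduct.includeRight_apply, TensorProduct.tmul_smul,
      TensorProduct.smul_tmul', Algebra.smul_def, mul_one]⟩

/-- The fibre of an algebra over a residue field. -/
theorem nonempty_fibre_algEquiv' {A B F k : Type u} [CommRing A] [IsLocalRing A] [CommRing B] [Algebra A B]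
    [CommRing F] [Field k] [Algebra A k] [Algebra k F] (hk : Function.Surjective (algebraMap A k))
    (π : B →+* F) (hπ : Function.Surjective π) (hker : RingHom.ker π = (maximalIdeal A).map (algebraMap A B))
    (hπA : ∀ a, π (algebraMap A B a) = algebraMap k F (algebraMap A k a)) :
    Nonempty (k ⊗[A] B ≃ₐ[k] F) := by
  letI : Algebra A F := ((algebraMap k F).comp (algebraMap A k)).toAlgebra
  haveI : IsScalarTower A k F := .of_algebraMap_eq fun a => rfl
  let πA : B →ₐ[A] F := { π with commutes' := hπA }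
  let f : k ⊗[A] B →ₐ[k] F :=
    Algebra.TensorProduct.lift (Algebra.ofId _ _) πA (fun _ _ => Commute.all _ _)
  have hf : ∀ b, f (1 ⊗ₜ b) = π b := fun b => by
    show algebraMap k F 1 * π b = π b
    rw [map_one, one_mul]
  refine ⟨AlgEquiv.ofBijective f ⟨(injective_iff_map_eq_zero f).2 fun x hx => ?_, fun y => ?_⟩⟩
  · obtain ⟨y, rfl⟩ := includeRight_surjective hk x
    rw [Algebra.TensorProduct.includeRight_apply, hf] at hx
    have hy : y ∈ (maximalIdeal A).map (algebraMap A B) := hker ▸ hx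
    show y ∈ RingHom.ker (Algebra.TensorProduct.includeRight : B →ₐ[A] k ⊗[A] B).toRingHom
    refine Ideal.map_le_iff_le_comap.2 (fun a ha => ?_) hy
    show (Algebra.TensorProduct.includeRight : B →ₐ[A] k ⊗[A] B) (algebraMap A B a) = 0
    rw [AlgHom.commutes, Algebra.TensorProduct.algebraMap_apply]
    have h0 : algebraMap A k a = 0 :=
      RingHom.mem_ker.1 (le_of_eq (eq_maximalIdeal (RingHom.ker_isMaximal_of_surjective _ hk)).symm ha)
    rw [h0, TensorProduct.zero_tmul]
  · obtain ⟨b, rfl⟩ := hπ y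
    exact ⟨1 ⊗ₜ b, hf b⟩

theorem isGeometricallyRegular_of_algEquiv {k S T : Type u} [Field k] [CommRing S] [CommRing T] [Algebra k S]
    [Algebra k T] (e : S ≃ₐ[k] T) (h : CAlg.IsGeometricallyRegular k S) : CAlg.IsGeometricallyRegular k T := by
  intro k' _ _ hfin
  haveI := h k' hfin
  exact IsRegularRing.of_ringEquiv (Algebra.TensorProduct.congr (AlgEquiv.refl : k' ≃ₐ[k] k') e).toRingEquiv

theorem isFormallySmoothAdic_maximal {A B : Type u} [CommRing A] [IsLocalRing A] [CommRing B] [IsLocalRing B]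
    [Algebra A B] (h : CAlgX.IsAdicFormallySmooth A B (maximalIdeal B)) :
    EGA41.IsFormallySmoothAdic A (maximalIdeal A) B (maximalIdeal B) := by
  intro C _ _ J hJ _ u hu
  exact (Groth.Agent.S4537.result _).1 h C J hJ ⟨1, by simp⟩ u hu

theorem isAdicFormallySmooth_of_maximal {A B : Type u} [CommRing A] [IsLocalRing A] [CommRing B] [IsLocalRing B]
    [IsNoetherianRing B] [Algebra A B] [IsLocalHom (algebraMap A B)]
    (h : EGA41.IsFormallySmoothAdic A (maximalIdeal A) B (maximalIdeal B)) :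
    CAlgX.IsAdicFormallySmooth A B (maximalIdeal B) := by
  refine Groth.Agent.S9316.result.mpr ?_
  intro C _ _ _ _ _ J hJ _ _ ψ _ _
  obtain ⟨e, he⟩ := IsArtinianRing.isNilpotent_jacobson_bot (R := C)
  rw [jacobson_eq_maximalIdeal ⊥ bot_ne_top] at he
  refine h C J ⟨2, hJ⟩ ⟨e, le_bot_iff.1 ?_⟩ ψ ⟨e, fun x hx => ?_⟩
  · rw [Ideal.map_pow]
    refine le_trans (Ideal.pow_right_mono ?_ e) he.le
    exact ((local_hom_TFAE (algebraMap A C)).out 0 2).1 ‹_›
  · have h1 : ψ.toRingHom x ∈ maximalIdeal (C ⧸ J) ^ e := by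
      refine Ideal.pow_right_mono (((local_hom_TFAE ψ.toRingHom).out 0 2).1 ‹_›) e ?_
      rw [← Ideal.map_pow]
      exact Ideal.mem_map_of_mem _ hx
    rw [← map_maximalIdeal_of_surjective (Ideal.Quotient.mk J) Ideal.Quotient.mk_surjective,
      ← Ideal.map_pow, he] at h1
    simpa using h1

theorem isAdicComplete_of_surjective {R S : Type u} [CommRing R] [IsLocalRing R] [IsNoetherianRing R]
    [IsAdicComplete (maximalIdeal R) R] [CommRing S] [IsLocalRing S] (f : R →+* S) (hf : Function.Surjective f) :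
    IsAdicComplete (maximalIdeal S) S := by
  letI := f.toAlgebra
  haveI : Module.Finite R S := Module.Finite.of_surjective (Algebra.linearMap R S) hf
  rw [← map_maximalIdeal_of_surjective (algebraMap R S) hf]
  exact (IsAdicComplete.map_algebraMap_iff _ _).2 (Compl.isAdicComplete_of_finite _ _)

/-- A map to a flat algebra which is bijective modulo an ideal of the base is bijective. -/
theorem bijective_of_fibre {A B C : Type u} [CommRing A] [CommRing B] [IsLocalRing B]
    [IsNoetherianRing B] [IsAdicComplete (maximalIdeal B) B] [CommRing C] [IsLocalRing C] [IsNoetherianRing C]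
    [Algebra A B] [Algebra A C] [Module.Flat A C] (v : B →ₐ[A] C) (I : Ideal A)
    (hIB : I.map (algebraMap A B) ≤ maximalIdeal B) (hIC : I.map (algebraMap A C) ≤ maximalIdeal C)
    (hsurj : ∀ c : C, ∃ b, c - v b ∈ I.map (algebraMap A C))
    (hinj : ∀ b, v b ∈ I.map (algebraMap A C) → b ∈ I.map (algebraMap A B)) : Function.Bijective v := by
  have hvI : (I.map (algebraMap A B)).map v.toRingHom = I.map (algebraMap A C) := by
    rw [Ideal.map_map]
    exact congrArg (fun f : A →+* C => I.map f) (RingHom.ext fun a => v.commutes a)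
  have hloc : ∀ b, IsUnit (v b) → IsUnit b := fun b hb => by
    obtain ⟨c, hc⟩ := hb.exists_right_inv
    obtain ⟨b', hb'⟩ := hsurj c
    have h1 : v (b * b' - 1) ∈ I.map (algebraMap A C) := by
      have := Ideal.mul_mem_left _ (v b) hb'
      rw [mul_sub, hc] at this
      rw [map_sub, map_mul, map_one, ← neg_sub]
      exact neg_mem this
    by_contra hnu
    refine (maximalIdeal.isMaximal B).ne_top ((Ideal.eq_top_iff_one _).2 ?_)
    rw [← sub_sub_self (b * b') 1]
    exact sub_mem (Ideal.mul_mem_right _ _ hnu) (hIB (hinj _ h1))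
  have hmap : (maximalIdeal B).map v.toRingHom = maximalIdeal C := by
    refine le_antisymm ?_ fun c hc => ?_
    · haveI : Nontrivial C := inferInstance
      refine Ideal.map_le_iff_le_comap.2 fun b hb => ?_
      intro hu
      exact hb (hloc b hu)
    · obtain ⟨b, hb⟩ := hsurj c
      have h2 : v b ∈ maximalIdeal C := by
        rw [← sub_sub_self c (v b)]
        exact sub_mem hc (hIC hb)
      have h3 : b ∈ maximalIdeal B := fun hu => h2 (hu.map v)
      rw [← sub_add_cancel c (v b)]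
      refine add_mem ?_ (Ideal.mem_map_of_mem _ h3)
      rw [← hvI] at hb
      exact Ideal.map_mono hIB hb
  have hs : Function.Surjective v := by
    haveI : IsHausdorff ((maximalIdeal B).map v.toRingHom) C := by
      rw [hmap]; infer_instance
    refine surjective_of_mk_map_comp_surjective (I := maximalIdeal B) (f := v.toRingHom) ?_
    intro t
    obtain ⟨t, rfl⟩ := Ideal.Quotient.mk_surjective t
    obtain ⟨b, hb⟩ := hsurj t
    refine ⟨b, ?_⟩
    show Ideal.Quotient.mk _ (v b) = _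
    rw [Ideal.Quotient.eq, ← neg_sub, hmap]
    exact neg_mem (hIC hb)
  refine ⟨(injective_iff_map_eq_zero v).2 ?_, hs⟩
  let K : Submodule A B := LinearMap.ker v.toLinearMap
  haveI : Module.Flat A (B ⧸ K) :=
    Module.Flat.of_linearEquiv (v.toLinearMap.quotKerEquivOfSurjective hs)
  have hle : RingHom.ker v.toRingHom ≤ I.map (algebraMap A B) * RingHom.ker v.toRingHom := by
    intro x hx
    have h1 : x ∈ I • (⊤ : Submodule A B) := by
      rw [Ideal.smul_top_eq_map, Submodule.restrictScalars_mem]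
      exact hinj x ((show v x = 0 from hx).symm ▸ zero_mem _)
    refine Submodule.smul_induction_on (p := fun z => z ∈ I.map (algebraMap A B) * RingHom.ker v.toRingHom)
      (HBDef3.mem_smul_of_mem_of_flat_quot I K (show x ∈ K from hx) h1)
      (fun a ha y hy => ?_) (fun y z hy hz => add_mem hy hz)
    rw [Algebra.smul_def]
    exact Ideal.mul_mem_mul (Ideal.mem_map_of_mem (algebraMap A B) ha) (show y ∈ RingHom.ker v.toRingHom from hy)
  have hbot := Submodule.eq_bot_of_le_smul_of_le_jacobson_bot _ _ (IsNoetherian.noetherian _) hle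
    (hIB.trans (maximalIdeal_le_jacobson ⊥))
  exact fun x hx => (Submodule.mem_bot B).1 (hbot ▸ hx)

/-- Lifting maps out of a formally smooth algebra to complete rings. -/
theorem exists_lift_quot {A B C : Type u} [CommRing A] [IsLocalRing A] [CommRing B] [IsLocalRing B] [CommRing C]
    [IsLocalRing C] [IsNoetherianRing C] [IsAdicComplete (maximalIdeal C) C] [Algebra A B] [Algebra A C]
    [IsLocalHom (algebraMap A C)] (hB : EGA41.IsFormallySmoothAdic A (maximalIdeal A) B (maximalIdeal B))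
    (J : Ideal C) (hJ : J ≤ maximalIdeal C) (u : B →ₐ[A] C ⧸ J) (hu : Function.Surjective u) :
    ∃ v : B →ₐ[A] C, ∀ b, Ideal.Quotient.mk J (v b) = u b := by
  haveI : Nontrivial (C ⧸ J) := Ideal.Quotient.nontrivial_iff.2 fun h =>
    (maximalIdeal.isMaximal C).ne_top (top_le_iff.1 (h ▸ hJ))
  haveI : IsLocalRing (C ⧸ J) := IsLocalRing.of_surjective' _ Ideal.Quotient.mk_surjective
  have hm := map_maximalIdeal_of_surjective (Ideal.Quotient.mk J) Ideal.Quotient.mk_surjective
  haveI : IsHausdorff ((maximalIdeal C).map (Ideal.Quotient.mk J)) (C ⧸ J) := by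
    rw [hm]; infer_instance
  obtain ⟨v, -, hv⟩ := AdicSmooth3.exists_lift (𝔞 := maximalIdeal A) (𝔟 := maximalIdeal B)
    (𝔠 := maximalIdeal C) hB ⟨1, by rw [pow_one]; exact ((local_hom_TFAE (algebraMap A C)).out 0 2).1 ‹_›⟩
    J ⟨1, by rw [pow_one]; exact hJ⟩ u ⟨1, by rw [pow_one, hm, ← map_maximalIdeal_of_surjective u.toRingHom hu]⟩
  exact ⟨v, fun b => AlgHom.congr_fun hv b⟩

variable {A : Type u} [CommRing A] [IsLocalRing A] [IsNoetherianRing A] (J : Ideal A) [IsLocalRing (A ⧸ J)]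

/-- Existence of flat complete lifts. -/
theorem exists_flat_lift (hJ : J ≤ maximalIdeal A) (B₀ : Type u) [CommRing B₀] [IsLocalRing B₀] [IsNoetherianRing B₀]
    [IsAdicComplete (maximalIdeal B₀) B₀] [Algebra (A ⧸ J) B₀] [IsLocalHom (algebraMap (A ⧸ J) B₀)]
    (hfs : EGA41.IsFormallySmoothAdic (A ⧸ J) (maximalIdeal (A ⧸ J)) B₀ (maximalIdeal B₀)) :
    ∃ (B : Type u) (_ : CommRing B) (_ : IsLocalRing B) (_ : IsNoetherianRing B) (_ : Algebra A B)
      (_ : IsLocalHom (algebraMap A B)),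
      IsAdicComplete (maximalIdeal B) B ∧ Module.Flat A B ∧ Nonempty ((A ⧸ J) ⊗[A] B ≃ₐ[A ⧸ J] B₀) := by
  let k := ResidueField (A ⧸ J)
  have hk₀ : Function.Surjective (algebraMap (A ⧸ J) k) := residue_surjective
  have hk : Function.Surjective (algebraMap A k) := residue_surjective.comp Ideal.Quotient.mk_surjective
  have hmA : (maximalIdeal A).map (algebraMap A (A ⧸ J)) = maximalIdeal (A ⧸ J) :=
    map_maximalIdeal_of_surjective _ Ideal.Quotient.mk_surjective
  obtain ⟨hflat₀, hgeo⟩ := (FSFlat3.isAdicFormallySmooth_iff hk₀).1 (isAdicFormallySmooth_of_maximal hfs)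
  haveI := hflat₀
  let I₀ := (maximalIdeal (A ⧸ J)).map (algebraMap (A ⧸ J) B₀)
  have hI₀ : I₀ ≤ maximalIdeal B₀ := ((local_hom_TFAE (algebraMap (A ⧸ J) B₀)).out 0 2).1 ‹_›
  letI : Algebra k (B₀ ⧸ I₀) := (Ideal.Quotient.lift (maximalIdeal (A ⧸ J))
    (algebraMap (A ⧸ J) (B₀ ⧸ I₀)) fun a ha => by
      rw [IsScalarTower.algebraMap_apply (A ⧸ J) B₀ (B₀ ⧸ I₀)]
      exact Ideal.Quotient.eq_zero_iff_mem.2 (Ideal.mem_map_of_mem _ ha)).toAlgebra
  haveI : Nontrivial (B₀ ⧸ I₀) := Ideal.Quotient.nontrivial_iff.2 fun h =>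
    (maximalIdeal.isMaximal B₀).ne_top (top_le_iff.1 (h ▸ hI₀))
  haveI : IsLocalRing (B₀ ⧸ I₀) := IsLocalRing.of_surjective' _ Ideal.Quotient.mk_surjective
  obtain ⟨e₀⟩ := nonempty_fibre_algEquiv' hk₀ (Ideal.Quotient.mk I₀) Ideal.Quotient.mk_surjective Ideal.mk_ker
    (fun a => rfl)
  have hgeoF := isGeometricallyRegular_of_algEquiv e₀ hgeo
  haveI : IsRegularLocalRing (B₀ ⧸ I₀) :=
    AdicSmooth.isRegularLocalRing_of_adicFS (FSFlat3.adicFS_iff_geometricallyRegular.2 hgeoF)
  haveI : IsAdicComplete (maximalIdeal (B₀ ⧸ I₀)) (B₀ ⧸ I₀) :=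
    isAdicComplete_of_surjective _ Ideal.Quotient.mk_surjective
  haveI : IsLocalHom (Ideal.Quotient.mk J) := IsLocalHom.of_surjective _ Ideal.Quotient.mk_surjective
  letI : Algebra (ResidueField A) (B₀ ⧸ I₀) :=
    ((algebraMap k (B₀ ⧸ I₀)).comp (ResidueField.map (Ideal.Quotient.mk J))).toAlgebra
  obtain ⟨B, iB, iBl, iBn, iBA, iloc, π, hc, hflat, hπ, hker, hπA⟩ := exists_lift A (B₀ ⧸ I₀)
  haveI := hc
  haveI := hflat
  haveI : Module.Flat A B := hflat
  obtain ⟨e⟩ := nonempty_fibre_algEquiv' (k := k) hk π hπ hker hπA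
  have hB : EGA41.IsFormallySmoothAdic A (maximalIdeal A) B (maximalIdeal B) :=
    isFormallySmoothAdic_maximal ((FSFlat3.isAdicFormallySmooth_iff hk).2
      ⟨hflat, isGeometricallyRegular_of_algEquiv e.symm hgeoF⟩)
  letI : Algebra A B₀ := ((algebraMap (A ⧸ J) B₀).comp (Ideal.Quotient.mk J)).toAlgebra
  haveI : IsScalarTower A (A ⧸ J) B₀ := .of_algebraMap_eq fun a => rfl
  haveI : IsLocalHom (algebraMap A B₀) := RingHom.isLocalHom_comp _ _
  have hπc : ∀ a, π (algebraMap A B a) = algebraMap A (B₀ ⧸ I₀) a := fun a => by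
    rw [hπA]
    rfl
  let u : B →ₐ[A] B₀ ⧸ I₀ := { π with commutes' := hπc }
  obtain ⟨v, hv⟩ := exists_lift_quot hB I₀ hI₀ u hπ
  have hnt : Nontrivial ((A ⧸ J) ⊗[A] B) :=
    RingHom.domain_nontrivial (Algebra.TensorProduct.lift (Algebra.ofId (A ⧸ J) B₀) v
      (fun _ _ => Commute.all _ _)).toRingHom
  haveI := hnt
  let incl : B →ₐ[A] (A ⧸ J) ⊗[A] B := Algebra.TensorProduct.includeRight
  have hincl : Function.Surjective incl := includeRight_surjective Ideal.Quotient.mk_surjective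
  haveI : IsLocalRing ((A ⧸ J) ⊗[A] B) := IsLocalRing.of_surjective' incl.toRingHom hincl
  haveI : IsNoetherianRing ((A ⧸ J) ⊗[A] B) := isNoetherianRing_of_surjective _ _ incl.toRingHom hincl
  haveI : IsAdicComplete (maximalIdeal ((A ⧸ J) ⊗[A] B)) ((A ⧸ J) ⊗[A] B) :=
    isAdicComplete_of_surjective incl.toRingHom hincl
  let w : (A ⧸ J) ⊗[A] B →ₐ[A ⧸ J] B₀ :=
    Algebra.TensorProduct.lift (Algebra.ofId (A ⧸ J) B₀) v (fun _ _ => Commute.all _ _)
  have hw : ∀ b, w (incl b) = v b := fun b => by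
    show algebraMap (A ⧸ J) B₀ 1 * v b = v b
    rw [map_one, one_mul]
  have hmap : (maximalIdeal (A ⧸ J)).map (algebraMap (A ⧸ J) ((A ⧸ J) ⊗[A] B)) =
      ((maximalIdeal A).map (algebraMap A B)).map incl.toRingHom := by
    rw [← hmA, Ideal.map_map, Ideal.map_map]
    exact congrArg (fun f : A →+* (A ⧸ J) ⊗[A] B => (maximalIdeal A).map f)
      (RingHom.ext fun a => ((IsScalarTower.algebraMap_apply A (A ⧸ J) _ a).symm.trans (incl.commutes a).symm))
  have hbij : Function.Bijective w := by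
    refine bijective_of_fibre w (maximalIdeal (A ⧸ J)) ?_ hI₀ (fun c => ?_) (fun x hx => ?_)
    · rw [hmap, ← map_maximalIdeal_of_surjective incl.toRingHom hincl]
      exact Ideal.map_mono (((local_hom_TFAE (algebraMap A B)).out 0 2).1 iloc)
    · obtain ⟨b, hb⟩ := hπ (Ideal.Quotient.mk I₀ c)
      refine ⟨incl b, Ideal.Quotient.eq.1 ?_⟩
      rw [hw, hv]
      exact hb.symm
    · obtain ⟨b, rfl⟩ := hincl x
      rw [hmap]
      refine Ideal.mem_map_of_mem _ (hker ▸ ?_)
      rw [RingHom.mem_ker, show π b = u b from rfl, ← hv, ← hw]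
      exact Ideal.Quotient.eq_zero_iff_mem.2 hx
  exact ⟨B, iB, iBl, iBn, iBA, iloc, hc, hflat, ⟨AlgEquiv.ofBijective w hbij⟩⟩

/-- Uniqueness of flat complete lifts. -/
theorem exists_unique_flat_lift (hJ : J ≤ maximalIdeal A) (B₀ : Type u) [CommRing B₀] [IsLocalRing B₀]
    [IsNoetherianRing B₀] [Algebra (A ⧸ J) B₀] [IsLocalHom (algebraMap (A ⧸ J) B₀)]
    (hfs : EGA41.IsFormallySmoothAdic (A ⧸ J) (maximalIdeal (A ⧸ J)) B₀ (maximalIdeal B₀))
    (B B' : Type u) [CommRing B] [IsLocalRing B] [IsNoetherianRing B] [Algebra A B] [IsLocalHom (algebraMap A B)]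
    [CommRing B'] [IsLocalRing B'] [IsNoetherianRing B'] [Algebra A B'] [IsLocalHom (algebraMap A B')]
    [IsAdicComplete (maximalIdeal B) B] [Module.Flat A B] [IsAdicComplete (maximalIdeal B') B'] [Module.Flat A B']
    (u : (A ⧸ J) ⊗[A] B ≃ₐ[A ⧸ J] B₀) (u' : (A ⧸ J) ⊗[A] B' ≃ₐ[A ⧸ J] B₀) :
    ∃ v : B ≃ₐ[A] B', (u' : (A ⧸ J) ⊗[A] B' →ₐ[A ⧸ J] B₀).comp
      (Algebra.TensorProduct.map (AlgHom.id (A ⧸ J) (A ⧸ J)) (v : B →ₐ[A] B')) =
        (u : (A ⧸ J) ⊗[A] B →ₐ[A ⧸ J] B₀) := by
  letI : Algebra A B₀ := ((algebraMap (A ⧸ J) B₀).comp (Ideal.Quotient.mk J)).toAlgebra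
  haveI : IsScalarTower A (A ⧸ J) B₀ := .of_algebraMap_eq fun a => rfl
  let k := ResidueField (A ⧸ J)
  have hk₀ : Function.Surjective (algebraMap (A ⧸ J) k) := residue_surjective
  have hk : Function.Surjective (algebraMap A k) := residue_surjective.comp Ideal.Quotient.mk_surjective
  obtain ⟨hflat₀, hgeo⟩ := (FSFlat3.isAdicFormallySmooth_iff hk₀).1 (isAdicFormallySmooth_of_maximal hfs)
  let e : k ⊗[A ⧸ J] B₀ ≃ₐ[k] k ⊗[A] B :=
    (Algebra.TensorProduct.congr (AlgEquiv.refl : k ≃ₐ[k] k) u.symm).trans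
      (Algebra.TensorProduct.cancelBaseChange A (A ⧸ J) k k B)
  have hB : EGA41.IsFormallySmoothAdic A (maximalIdeal A) B (maximalIdeal B) :=
    isFormallySmoothAdic_maximal ((FSFlat3.isAdicFormallySmooth_iff hk).2
      ⟨inferInstance, isGeometricallyRegular_of_algEquiv e hgeo⟩)
  let inB : B →ₐ[A] (A ⧸ J) ⊗[A] B := Algebra.TensorProduct.includeRight
  let inB' : B' →ₐ[A] (A ⧸ J) ⊗[A] B' := Algebra.TensorProduct.includeRight
  have hinB : Function.Surjective inB := includeRight_surjective Ideal.Quotient.mk_surjective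
  have hinB' : Function.Surjective inB' := includeRight_surjective Ideal.Quotient.mk_surjective
  let J' := J.map (algebraMap A B')
  have hJB : J.map (algebraMap A B) ≤ maximalIdeal B :=
    (Ideal.map_mono hJ).trans (((local_hom_TFAE (algebraMap A B)).out 0 2).1 ‹_›)
  have hJB' : J' ≤ maximalIdeal B' :=
    (Ideal.map_mono hJ).trans (((local_hom_TFAE (algebraMap A B')).out 0 2).1 ‹_›)
  have hkB := ker_includeRight (B := B) J
  have hkB' := ker_includeRight (B := B') J
  let q : (B' ⧸ J') →ₐ[A] (A ⧸ J) ⊗[A] B' :=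
    Ideal.Quotient.liftₐ J' inB' fun a ha => RingHom.mem_ker.1 (hkB'.ge ha)
  have hq : Function.Bijective q := by
    refine ⟨(injective_iff_map_eq_zero q).2 fun x hx => ?_, fun y => ?_⟩
    · obtain ⟨x, rfl⟩ := Ideal.Quotient.mk_surjective x
      refine Ideal.Quotient.eq_zero_iff_mem.2 ?_
      show x ∈ J.map (algebraMap A B')
      rw [← hkB']
      exact hx
    · obtain ⟨x, rfl⟩ := hinB' y
      exact ⟨Ideal.Quotient.mk J' x, rfl⟩
  let φ : (A ⧸ J) ⊗[A] B →ₐ[A ⧸ J] (A ⧸ J) ⊗[A] B' := (u.trans u'.symm).toAlgHom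
  let u₁ : B →ₐ[A] B' ⧸ J' :=
    ((AlgEquiv.ofBijective q hq).symm.toAlgHom.comp (φ.restrictScalars A)).comp inB
  have hu₁ : Function.Surjective u₁ :=
    ((AlgEquiv.ofBijective q hq).symm.surjective.comp (u.trans u'.symm).surjective).comp hinB
  have hqu : ∀ b, q (u₁ b) = φ (inB b) := fun b => (AlgEquiv.ofBijective q hq).apply_symm_apply _
  obtain ⟨v, hv⟩ := exists_lift_quot hB J' hJB' u₁ hu₁
  have key : ∀ b, inB' (v b) = φ (inB b) := fun b => by
    rw [← hqu, ← hv]
    rfl
  have hbij : Function.Bijective v := by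
    refine bijective_of_fibre v J hJB hJB' (fun c => ?_) (fun b hb => ?_)
    · obtain ⟨b, hb⟩ := hu₁ (Ideal.Quotient.mk J' c)
      refine ⟨b, Ideal.Quotient.eq.1 ?_⟩
      rw [hv, hb]
    · rw [← hkB, RingHom.mem_ker]
      refine (u.trans u'.symm).injective ((key b).symm.trans ?_)
      rw [← hkB', RingHom.mem_ker] at hb
      exact hb.trans (map_zero _).symm
  refine ⟨AlgEquiv.ofBijective v hbij, Algebra.TensorProduct.ext' fun a b => ?_⟩
  show u' (a ⊗ₜ v b) = u (a ⊗ₜ b)
  have h1 : (a ⊗ₜ[A] v b) = a • inB' (v b) := by simp [inB', TensorProduct.smul_tmul']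
  have h2 : (a ⊗ₜ[A] b) = a • inB b := by simp [inB, TensorProduct.smul_tmul']
  rw [h1, h2, map_smul, map_smul, key]
  exact congrArg (a • ·) (u'.apply_symm_apply _)

end Groth.Agent.CohenAlg3
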