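import Groth.Agent.Lib.CohenAlg3.Exists
import Groth.Agent.Lib.FSFlat3.Forward

/-! # Gonflement over an arbitrary Noetherian local ring -/

set_option autoImplicit false
set_option linter.style.haveILetI false
universe u

namespace Groth.Agent.CohenAlg3

open IsLocalRing TensorProduct

/-- Every regular complete algebra over the residue field is the closed fibre of a flat complete algebra. -/
theorem exists_lift (A B₀ : Type u) [CommRing A] [IsLocalRing A] [IsNoetherianRing A]
    [CommRing B₀] [IsRegularLocalRing B₀] [IsAdicComplete (maximalIdeal B₀) B₀]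
    [Algebra (ResidueField A) B₀] :
    ∃ (B : Type u) (_ : CommRing B) (_ : IsLocalRing B) (_ : IsNoetherianRing B) (_ : Algebra A B)
      (_ : IsLocalHom (algebraMap A B)) (π : B →+* B₀),
      IsAdicComplete (maximalIdeal B) B ∧ Module.Flat A B ∧ Function.Surjective π ∧
        RingHom.ker π = (maximalIdeal A).map (algebraMap A B) ∧
        ∀ a, π (algebraMap A B a) = algebraMap (ResidueField A) B₀ (residue A a) := by
  have hfg : (maximalIdeal A).FG := (maximalIdeal A).fg_of_isNoetherianRing
  haveI : IsAdicComplete (maximalIdeal (CplLocH7.Cpl A)) (CplLocH7.Cpl A) := by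
    rw [CplLocH7.maximalIdeal_cpl]
    exact (IsAdicComplete.map_algebraMap_iff _ _).2 (AdicCompletion.isAdicComplete hfg)
  let r : CplLocH7.Cpl A →+* ResidueField A :=
    (Ideal.Quotient.lift (maximalIdeal A ^ 1) (residue A) (fun a ha => by
      rw [pow_one] at ha
      exact (residue_eq_zero_iff a).2 ha)).comp (AdicCompletion.evalₐ (maximalIdeal A) 1).toRingHom
  have hr : ∀ a, r (algebraMap A (CplLocH7.Cpl A) a) = residue A a := fun a => by
    simp only [r, RingHom.comp_apply, AlgHom.toRingHom_eq_coe, RingHom.coe_coe, AlgHom.commutes,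
      Ideal.Quotient.algebraMap_eq, Ideal.Quotient.lift_mk]
  obtain ⟨B, iB, iBl, iBn, ι, π, hc, hι, hflat, hπ, hker, hπι⟩ :=
    exists_lift_of_isAdicComplete (CplLocH7.Cpl A) B₀ ((algebraMap (ResidueField A) B₀).comp r) fun x hx => by
      rw [CplLocH7.maximalIdeal_cpl] at hx
      show x ∈ RingHom.ker ((algebraMap (ResidueField A) B₀).comp r)
      refine Ideal.map_le_iff_le_comap.2 (fun a ha => ?_) hx
      show algebraMap (ResidueField A) B₀ (r (algebraMap A _ a)) = 0
      rw [hr, (residue_eq_zero_iff a).2 ha, map_zero]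
  letI : Algebra A B := (ι.comp (algebraMap A (CplLocH7.Cpl A))).toAlgebra
  haveI := CplLocH7.faithfullyFlat_cpl A
  haveI := hι
  refine ⟨B, iB, iBl, iBn, inferInstance, ?_, π, hc, ?_, hπ, ?_, fun a => ?_⟩
  · refine ((local_hom_TFAE (algebraMap A B)).out 0 2).2 ?_
    show (maximalIdeal A).map (ι.comp (algebraMap A (CplLocH7.Cpl A))) ≤ maximalIdeal B
    rw [← Ideal.map_map, ← CplLocH7.maximalIdeal_cpl]
    exact ((local_hom_TFAE ι).out 0 2).1 hι
  · exact RingHom.Flat.comp (RingHom.flat_algebraMap_iff.2 inferInstance) hflat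
  · show _ = (maximalIdeal A).map (ι.comp (algebraMap A (CplLocH7.Cpl A)))
    rw [← Ideal.map_map, ← CplLocH7.maximalIdeal_cpl, hker]
  · show π (ι (algebraMap A _ a)) = _
    rw [← RingHom.comp_apply, hπι, RingHom.comp_apply, hr]

/-- The fibre of a flat algebra as a tensor product. -/
theorem nonempty_fibre_algEquiv {A B B₀ : Type u} [CommRing A] [IsLocalRing A] [CommRing B] [Algebra A B]
    [CommRing B₀] [Algebra (ResidueField A) B₀] (π : B →+* B₀) (hπ : Function.Surjective π)
    (hker : RingHom.ker π = (maximalIdeal A).map (algebraMap A B))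
    (hπA : ∀ a, π (algebraMap A B a) = algebraMap (ResidueField A) B₀ (residue A a)) :
    Nonempty (ResidueField A ⊗[A] B ≃ₐ[ResidueField A] B₀) := by
  letI : Algebra A B₀ := ((algebraMap (ResidueField A) B₀).comp (residue A)).toAlgebra
  haveI : IsScalarTower A (ResidueField A) B₀ := .of_algebraMap_eq fun a => rfl
  let πA : B →ₐ[A] B₀ := { π with commutes' := hπA }
  let f : ResidueField A ⊗[A] B →ₐ[ResidueField A] B₀ :=
    Algebra.TensorProduct.lift (Algebra.ofId _ _) πA (fun _ _ => Commute.all _ _)
  have hf : ∀ b, f (1 ⊗ₜ b) = π b := fun b => by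
    show algebraMap (ResidueField A) B₀ 1 * π b = π b
    rw [map_one, one_mul]
  refine ⟨AlgEquiv.ofBijective f ⟨(injective_iff_map_eq_zero f).2 fun x hx => ?_, fun y => ?_⟩⟩
  · have hs : Function.Surjective (Algebra.TensorProduct.includeRight : B →ₐ[A] ResidueField A ⊗[A] B) := by
      intro z
      induction z with
      | zero => exact ⟨0, map_zero _⟩
      | add a b ha hb => obtain ⟨x, rfl⟩ := ha; obtain ⟨y, rfl⟩ := hb; exact ⟨x + y, map_add _ _ _⟩
      | tmul c b =>
        obtain ⟨a, rfl⟩ := residue_surjective c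
        exact ⟨a • b, by rw [Algebra.TensorProduct.includeRight_apply, TensorProduct.tmul_smul,
          TensorProduct.smul_tmul', Algebra.smul_def, mul_one]; rfl⟩
    obtain ⟨y, rfl⟩ := hs x
    rw [Algebra.TensorProduct.includeRight_apply, hf] at hx
    have hy : y ∈ (maximalIdeal A).map (algebraMap A B) := hker ▸ hx
    show y ∈ RingHom.ker (Algebra.TensorProduct.includeRight : B →ₐ[A] ResidueField A ⊗[A] B).toRingHom
    refine Ideal.map_le_iff_le_comap.2 (fun a ha => ?_) hy
    show (Algebra.TensorProduct.includeRight : B →ₐ[A] ResidueField A ⊗[A] B) (algebraMap A B a) = 0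
    rw [AlgHom.commutes, Algebra.TensorProduct.algebraMap_apply]
    rw [show algebraMap A (ResidueField A) a = 0 from (residue_eq_zero_iff a).2 ha, TensorProduct.zero_tmul]
  · obtain ⟨b, rfl⟩ := hπ y
    exact ⟨1 ⊗ₜ b, hf b⟩

end Groth.Agent.CohenAlg3
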