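import Groth.Prelude.Def_EGA41
import Groth.Agent.S2454
import Groth.Agent.S4543

/-! # Uniqueness of Cohen algebras with given residue field -/

set_option autoImplicit false
universe u

namespace Groth.Agent.CohenAlg3

open IsLocalRing

variable {A B B' : Type u} [CommRing A] [IsLocalRing A] [CommRing B] [IsLocalRing B] [Algebra A B]
  [IsLocalHom (algebraMap A B)] [CommRing B'] [IsLocalRing B'] [Algebra A B'] [IsLocalHom (algebraMap A B')]

/-- A Cohen algebra maps isomorphically to any complete flat algebra with the same residue field. -/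
theorem exists_equiv (hB : EGA41.IsCohenAlgebra A B) [IsNoetherianRing B']
    (hB' : IsAdicComplete (maximalIdeal B') B') [Module.Flat A B']
    (hm : (maximalIdeal A).map (algebraMap A B') = maximalIdeal B')
    (σ : ResidueField B ≃+* ResidueField B')
    (hσ : ∀ a, σ (residue B (algebraMap A B a)) = residue B' (algebraMap A B' a)) :
    ∃ w : B ≃ₐ[A] B', ∀ b, residue B' (w b) = σ (residue B b) := by
  obtain ⟨hA, hBn, hBc, hBf, hBm, hBg⟩ := id hB
  have hfs := Groth.Agent.S2454.result hB
  haveI : IsAdicComplete ((maximalIdeal A).map (algebraMap A B)) B := hBm.symm ▸ hBc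
  haveI : IsAdicComplete ((maximalIdeal A).map (algebraMap A B')) B' := hm.symm ▸ hB'
  have hfs' : EGA41.IsFormallySmoothAdic A (maximalIdeal A) B ((maximalIdeal A).map (algebraMap A B)) :=
    hBm.symm ▸ hfs
  let e1 : (B ⧸ (maximalIdeal A).map (algebraMap A B)) ≃+* ResidueField B := Ideal.quotEquivOfEq hBm
  let e2 : (B' ⧸ (maximalIdeal A).map (algebraMap A B')) ≃+* ResidueField B' := Ideal.quotEquivOfEq hm
  let u₀ : (B ⧸ (maximalIdeal A).map (algebraMap A B)) ≃ₐ[A ⧸ maximalIdeal A]
      (B' ⧸ (maximalIdeal A).map (algebraMap A B')) :=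
    AlgEquiv.ofRingEquiv (f := e1.trans (σ.trans e2.symm)) (fun x => by
      obtain ⟨a, rfl⟩ := Ideal.Quotient.mk_surjective x
      show e2.symm (σ (e1 (Ideal.Quotient.mk _ (algebraMap A B a)))) = Ideal.Quotient.mk _ (algebraMap A B' a)
      rw [show e1 (Ideal.Quotient.mk _ (algebraMap A B a)) = residue B (algebraMap A B a) from rfl, hσ]
      rfl)
  obtain ⟨w, hw⟩ := Groth.Agent.S4543.result (maximalIdeal A) hBm.le hm.le hfs' u₀
  refine ⟨w, fun b => ?_⟩
  have h : e2 (Ideal.Quotient.mk _ (w b)) = e2 (u₀ (Ideal.Quotient.mk _ b)) := congrArg e2 (hw b)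
  exact h.trans (e2.apply_symm_apply _)

end Groth.Agent.CohenAlg3
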